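import Groth.Agent.MorLib.BaseChangeLim
import Groth.Agent.FibDim.RelDim
import Groth.Agent.FibDim.LocDim
import Groth.Agent.CycLib.Flat
import Mathlib.AlgebraicGeometry.AffineTransitionLimit

/-!
# Fibre dimensions along cofiltered limits
-/

set_option autoImplicit false
set_option linter.style.haveILetI false
set_option backward.isDefEq.respectTransparency false
set_option backward.isDefEq.respectTransparency.types false

open AlgebraicGeometry CategoryTheory Limits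

namespace Groth.Agent.H4LimDim

universe u

variable {I : Type u} [SmallCategory I] [IsCofiltered I] (D : I ⥤ Scheme.{u}) (c : Cone D)
  (hc : IsLimit c) [∀ {i j : I} (f : i ⟶ j), IsAffineHom (D.map f)] {i₀ : I}
  {X₀ Y₀ : Scheme.{u}} (f₀ : X₀ ⟶ Y₀) (g₀ : Y₀ ⟶ D.obj i₀) [CompactSpace X₀] [LocallyOfFiniteType f₀]
  {X Y : Scheme.{u}} (f : X ⟶ Y) (g : Y ⟶ c.pt) (qY : Y ⟶ Y₀) (qX : X ⟶ X₀)
  (hY : IsPullback qY g g₀ (c.π.app i₀)) (hX : IsPullback qX f f₀ qY)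

/-- The stage morphism. -/
noncomputable def stage (j : Over i₀) :
    pullback (f₀ ≫ g₀) (D.map j.hom) ⟶ pullback g₀ (D.map j.hom) :=
  pullback.map _ _ _ _ f₀ (𝟙 _) (𝟙 _) (by simp) (by simp)

theorem stage_isPullback (j : Over i₀) :
    IsPullback (pullback.fst (f₀ ≫ g₀) (D.map j.hom)) (stage D f₀ g₀ j) f₀ (pullback.fst g₀ (D.map j.hom)) := by
  have hfst : stage D f₀ g₀ j ≫ pullback.fst g₀ (D.map j.hom) = pullback.fst _ _ ≫ f₀ :=
    pullback.lift_fst _ _ _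
  have hsnd : stage D f₀ g₀ j ≫ pullback.snd g₀ (D.map j.hom) = pullback.snd _ _ :=
    (pullback.lift_snd _ _ _).trans (Category.comp_id _)
  exact IsPullback.of_bot (by rw [hsnd]; exact IsPullback.of_hasPullback _ _) hfst.symm
    (IsPullback.of_hasPullback _ _)

include hX in
theorem fibreDimAt_top (x : X) : FlatMor.fibreDimAt f x = FlatMor.fibreDimAt f₀ (qX x) := by
  haveI : LocallyOfFiniteType f := MorphismProperty.of_isPullback hX inferInstance
  exact FibDim.fibreDimAt_baseChange hX x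

theorem fibreDimAt_stage (j : Over i₀) (x : ↥(pullback (f₀ ≫ g₀) (D.map j.hom))) :
    FlatMor.fibreDimAt (stage D f₀ g₀ j) x = FlatMor.fibreDimAt f₀ (pullback.fst (f₀ ≫ g₀) (D.map j.hom) x) := by
  haveI : LocallyOfFiniteType (stage D f₀ g₀ j) :=
    MorphismProperty.of_isPullback (stage_isPullback D f₀ g₀ j) inferInstance
  exact FibDim.fibreDimAt_baseChange (stage_isPullback D f₀ g₀ j) x

include hc hY hX in
/-- A fibre dimension bound in the limit holds at a stage. -/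
theorem exists_le (d : ℕ) (hd : ∀ x : X, FlatMor.fibreDimAt f x ≤ d) :
    ∃ j : Over i₀, ∀ x, FlatMor.fibreDimAt (stage D f₀ g₀ j) x ≤ d := by
  let U : ((MorLib.BC.diag D (f₀ ≫ g₀)).obj (Over.mk (𝟙 i₀))).Opens :=
    pullback.fst (f₀ ≫ g₀) (D.map (𝟙 i₀)) ⁻¹ᵁ ⟨_, FibDim.isOpen_fibreDimAt_le f₀ d⟩
  obtain ⟨j, a, ha⟩ := exists_map_eq_top (MorLib.BC.diag D (f₀ ≫ g₀)) _
    (MorLib.BC.isLimitCone D (f₀ ≫ g₀) (hX.paste_vert hY) hc) U (top_le_iff.1 fun x _ => by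
      show FlatMor.fibreDimAt f₀ ((MorLib.BC.proj D (f₀ ≫ g₀) (hX.paste_vert hY) (Over.mk (𝟙 i₀)) ≫
        pullback.fst (f₀ ≫ g₀) (D.map (𝟙 i₀))) x) ≤ d
      erw [MorLib.BC.proj_fst]
      rw [← fibreDimAt_top f₀ f qY qX hX]
      exact hd x)
  refine ⟨j, fun x => ?_⟩
  rw [fibreDimAt_stage]
  have h : ((MorLib.BC.diag D (f₀ ≫ g₀)).map a ≫ pullback.fst (f₀ ≫ g₀) (D.map (𝟙 i₀))) x ∈
      {x : X₀ | FlatMor.fibreDimAt f₀ x ≤ d} := ha.ge (Set.mem_univ x)
  erw [MorLib.BC.map_fst] at h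
  exact h

include hc hY hX in
/-- A lower fibre dimension bound in the limit holds at a stage for a morphism of finite presentation. -/
theorem exists_ge [LocallyOfFinitePresentation f₀] [QuasiSeparatedSpace X₀] (d : ℕ)
    (hd : ∀ x : X, (d : WithBot ℕ∞) ≤ FlatMor.fibreDimAt f x) :
    ∃ j : Over i₀, ∀ x, (d : WithBot ℕ∞) ≤ FlatMor.fibreDimAt (stage D f₀ g₀ j) x := by
  obtain _ | m := d
  · refine ⟨Over.mk (𝟙 i₀), fun x => ?_⟩
    haveI : LocallyOfFiniteType (stage D f₀ g₀ (Over.mk (𝟙 i₀))) :=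
      MorphismProperty.of_isPullback (stage_isPullback D f₀ g₀ _) inferInstance
    obtain ⟨z, -, -, he, -⟩ := FibDim.exists_fibreDimAt_eq (stage D f₀ g₀ (Over.mk (𝟙 i₀))) x
    rw [he]
    exact_mod_cast Nat.zero_le _
  have key : ∀ y : X₀, ((m + 1 : ℕ) : WithBot ℕ∞) ≤ FlatMor.fibreDimAt f₀ y ↔
      ¬ FlatMor.fibreDimAt f₀ y ≤ m := by
    intro y
    obtain ⟨z, -, -, he, -⟩ := FibDim.exists_fibreDimAt_eq f₀ y
    rw [he]
    constructor
    · intro h h'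
      have h1 : m + 1 ≤ m := by exact_mod_cast h.trans h'
      omega
    · intro h
      have h1 : ¬ FibDim.rd f₀ z ≤ m := fun h'' => h (by exact_mod_cast h'')
      exact_mod_cast (show m + 1 ≤ FibDim.rd f₀ z by omega)
  let B : X₀.Opens := ⟨_, FibDim.isOpen_fibreDimAt_le f₀ m⟩
  have hB : IsCompact (B : Set X₀) := (FibDim.isRetrocompact_setOf_fibreDimAt_le f₀ m).isCompact
  let U : ((MorLib.BC.diag D (f₀ ≫ g₀)).obj (Over.mk (𝟙 i₀))).Opens :=
    pullback.fst (f₀ ≫ g₀) (D.map (𝟙 i₀)) ⁻¹ᵁ B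
  have hU : IsCompact (U : Set ((MorLib.BC.diag D (f₀ ≫ g₀)).obj (Over.mk (𝟙 i₀)))) :=
    QuasiCompact.isCompact_preimage (f := pullback.fst (f₀ ≫ g₀) (D.map (𝟙 i₀))) _ B.2 hB
  obtain ⟨j, a, ha⟩ := exists_map_preimage_le_map_preimage (MorLib.BC.diag D (f₀ ≫ g₀)) _
    (MorLib.BC.isLimitCone D (f₀ ≫ g₀) (hX.paste_vert hY) hc) hU (V := ⊥) (fun x hx => by
      have hx' : FlatMor.fibreDimAt f₀ ((MorLib.BC.proj D (f₀ ≫ g₀) (hX.paste_vert hY) (Over.mk (𝟙 i₀)) ≫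
        pullback.fst (f₀ ≫ g₀) (D.map (𝟙 i₀))) x) ≤ m := hx
      erw [MorLib.BC.proj_fst] at hx'
      exact absurd hx' ((key _).1 ((hd x).trans_eq (fibreDimAt_top f₀ f qY qX hX x))))
  refine ⟨j, fun x => ?_⟩
  rw [fibreDimAt_stage, key]
  intro hx
  refine ha (x := x) ?_
  show ((MorLib.BC.diag D (f₀ ≫ g₀)).map a ≫ pullback.fst (f₀ ≫ g₀) (D.map (𝟙 i₀))) x ∈ B
  erw [MorLib.BC.map_fst]
  exact hx

/-- Relative dimension `d` means constant fibre dimension `d`. -/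
theorem hasRelDim_iff_fibreDimAt {A B : Scheme.{u}} (h : A ⟶ B) [LocallyOfFiniteType h] (d : ℕ) :
    Cyc.HasRelDim h d ↔ ∀ x : A, FlatMor.fibreDimAt h x = d := by
  rw [CycLib.hasRelDim_iff]
  constructor
  · intro hh x
    obtain ⟨z, -, -, hz, he⟩ := FibDim.exists_fibMax_generization h x
    rw [he, hh z hz]
    rfl
  · intro hh x hx
    have h1 := FibDim.fibreDimAt_eq_rd h hx
    rw [hh x] at h1
    exact_mod_cast h1.symm

include hc hY hX in
theorem exists_hasRelDim [LocallyOfFinitePresentation f₀] [QuasiSeparatedSpace X₀] (d : ℕ)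
    (hd : Cyc.HasRelDim f d) : ∃ j : Over i₀, Cyc.HasRelDim (stage D f₀ g₀ j) d := by
  haveI : LocallyOfFiniteType f := MorphismProperty.of_isPullback hX inferInstance
  rw [hasRelDim_iff_fibreDimAt] at hd
  obtain ⟨j₁, h₁⟩ := exists_le D c hc f₀ g₀ f g qY qX hY hX d fun x => (hd x).le
  obtain ⟨j₂, h₂⟩ := exists_ge D c hc f₀ g₀ f g qY qX hY hX d fun x => (hd x).ge
  let j := IsCofiltered.min j₁ j₂
  refine ⟨j, ?_⟩
  haveI : LocallyOfFiniteType (stage D f₀ g₀ j) :=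
    MorphismProperty.of_isPullback (stage_isPullback D f₀ g₀ j) inferInstance
  rw [hasRelDim_iff_fibreDimAt]
  intro x
  have e : ∀ (k : Over i₀) (a : j ⟶ k), FlatMor.fibreDimAt (stage D f₀ g₀ j) x =
      FlatMor.fibreDimAt (stage D f₀ g₀ k) ((MorLib.BC.diag D (f₀ ≫ g₀)).map a x) := by
    intro k a
    rw [fibreDimAt_stage, fibreDimAt_stage]
    congr 1
    exact congr($((MorLib.BC.map_fst D (f₀ ≫ g₀) a).symm).base x)
  exact le_antisymm ((e j₁ (IsCofiltered.minToLeft j₁ j₂)).trans_le (h₁ _))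
    ((h₂ _).trans_eq (e j₂ (IsCofiltered.minToRight j₁ j₂)).symm)

end Groth.Agent.H4LimDim
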